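import Groth.Agent.AlgGrpEquiv.Torsor
import Groth.Agent.Misc10.GalTw.Group
import Groth.Agent.S1550
import Groth.Agent.TorusPts.Data
import Groth.Agent.VarietyBC.BC

/-!
# Equivariant maps for torsors without rational points
-/

set_option autoImplicit false
set_option backward.isDefEq.respectTransparency false
set_option backward.isDefEq.respectTransparency.types false
set_option synthInstance.maxHeartbeats 200000
set_option maxHeartbeats 1000000

universe u

open CategoryTheory CategoryTheory.Limits MonoidalCategory CartesianMonoidalCategory MonObj GrpObj AlgebraicGeometry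
open GalTw

noncomputable section

namespace Groth.AlgGrpEquiv

open Groth.Misc10.GalTw

variable {k : Type u} [Field k]

/-- A smooth variety has a point in a finite Galois extension. -/
theorem exists_galois_point (X : Over (Spec (CommRingCat.of k))) [Smooth X.hom] [Nonempty X.left] :
    ∃ (E : Type u) (_ : Field E) (_ : Algebra k E), FiniteDimensional k E ∧ IsGalois k E ∧
      Nonempty (SGA7.pt (K := k) E ⟶ X) := by
  let : X.left.Over (Spec (CommRingCat.of k)) := ⟨X.hom⟩
  have : Smooth (X.left ↘ Spec (CommRingCat.of k)) := ‹Smooth X.hom›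
  obtain ⟨x, -, hfd, hsep⟩ := (Groth.Agent.S1550.result k X.left).nonempty
  let _ : Algebra k (X.left.residueField x) := Curv2.resAlgebra k X.left x
  obtain ⟨E, _, _, h1, h2, ⟨j⟩⟩ := Groth.TorusPts.exists_galois_over (K := k) (X.left.residueField x)
  refine ⟨E, _, _, h1, h2, ⟨Over.homMk (Spec.map (CommRingCat.ofHom j.toRingHom) ≫ X.left.fromSpecResidueField x) ?_⟩⟩
  show (Spec.map _ ≫ X.left.fromSpecResidueField x) ≫ X.hom = Spec.map (CommRingCat.ofHom (algebraMap k E))
  have e : CommRingCat.ofHom (algebraMap k E) =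
      CommRingCat.ofHom (algebraMap k (X.left.residueField x)) ≫ CommRingCat.ofHom j.toRingHom :=
    CommRingCat.hom_ext (RingHom.ext fun a => (j.commutes a).symm)
  rw [e, Spec.map_comp, Category.assoc]
  congr 1
  exact Groth.VarietyBC.fromSpecResidueField_str (k := k) x

variable {A X : Over (Spec (CommRingCat.of k))} [GrpObj A] [IsProper A.hom] [GeometricallyIntegral A.hom]
  [Smooth X.hom] [IsSeparated X.hom] [QuasiCompact X.hom] [GeometricallyIntegral X.hom]

/-- A free action of an abelian variety on a smooth variety has an equivariant morphism to the abelian variety,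
up to a positive multiple. -/
theorem exists_equivariant_of_free (act : A ⊗ X ⟶ X)
    (hassoc : ∀ {T : Over (Spec (CommRingCat.of k))} (u v : T ⟶ A) (x : T ⟶ X),
      lift u (lift v x ≫ act) ≫ act = lift (u * v) x ≫ act)
    (hone : ∀ {T : Over (Spec (CommRingCat.of k))} (x : T ⟶ X), lift (1 : T ⟶ A) x ≫ act = x)
    (hfree : Mono (lift act (snd A X))) :
    ∃ (φ : X ⟶ A) (n : ℕ), 0 < n ∧
      ∀ (T : Over (Spec (CommRingCat.of k))) (g : T ⟶ A) (x : T ⟶ X),
        lift g x ≫ act ≫ φ = (x ≫ φ) * g ^ n := by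
  classical
  have := GeometricallyIntegral.isIntegral_of_subsingleton X.hom
  obtain ⟨K, _, _, _, _, ⟨y⟩⟩ := exists_galois_point X
  let F := bcF (k := k) K
  letI : GrpObj (F.obj A) := Functor.grpObjObj
  have : IsProper (F.obj A).hom := inferInstanceAs (IsProper (pullback.snd A.hom _))
  have : GeometricallyIntegral (F.obj A).hom := inferInstanceAs (GeometricallyIntegral (pullback.snd A.hom _))
  have : GeometricallyIntegral (F.obj X).hom := inferInstanceAs (GeometricallyIntegral (pullback.snd X.hom _))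
  have : Smooth (F.obj X).hom := inferInstanceAs (Smooth (pullback.snd X.hom _))
  have : IsSeparated (F.obj X).hom := inferInstanceAs (IsSeparated (pullback.snd X.hom _))
  have : QuasiCompact (F.obj X).hom := inferInstanceAs (QuasiCompact (pullback.snd X.hom _))
  have := GeometricallyIntegral.isIntegral_of_subsingleton (F.obj X).hom
  let x₀ : 𝟙_ (Over (Spec (CommRingCat.of K))) ⟶ F.obj X :=
    Over.homMk (pullback.lift y.left (𝟙 _) (by rw [Over.w, Category.id_comp])) (pullback.lift_snd _ _ _)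
  -- pairing of points
  obtain ⟨p, p1, p2, hpdef⟩ : ∃ p : ∀ (C : Over (Spec (CommRingCat.of K))) (P Q : Over (Spec (CommRingCat.of k))),
      (C ⟶ F.obj P) → (C ⟶ F.obj Q) → (C ⟶ F.obj (P ⊗ Q)),
      (∀ C P Q u v, p C P Q u v ≫ F.map (fst P Q) = u) ∧ (∀ C P Q u v, p C P Q u v ≫ F.map (snd P Q) = v) ∧
      ∀ C P Q u v, lift u v ≫ Functor.LaxMonoidal.μ F P Q = p C P Q u v :=
    ⟨fun C P Q u v => lift u v ≫ Functor.LaxMonoidal.μ F P Q,
      fun C P Q u v => by rw [Category.assoc, Functor.Monoidal.μ_fst, lift_fst],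
      fun C P Q u v => by rw [Category.assoc, Functor.Monoidal.μ_snd, lift_snd], fun _ _ _ _ _ => rfl⟩
  have plift : ∀ {C : Over (Spec (CommRingCat.of K))} {P Q R : Over (Spec (CommRingCat.of k))} (w : C ⟶ F.obj R)
      (f : R ⟶ P) (g : R ⟶ Q), p _ _ _ (w ≫ F.map f) (w ≫ F.map g) = w ≫ F.map (lift f g) := fun w f g => by
    apply bcF_hom_ext
    · rw [p1, Category.assoc, ← Functor.map_comp, lift_fst]
    · rw [p2, Category.assoc, ← Functor.map_comp, lift_snd]
  have pmul : ∀ {C : Over (Spec (CommRingCat.of K))} {R : Over (Spec (CommRingCat.of k))} (w : C ⟶ F.obj R)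
      (f g : R ⟶ A), (w ≫ F.map f) * (w ≫ F.map g) = w ≫ F.map (f * g) := fun w f g => by
    rw [← MonObj.comp_mul, Functor.map_mul]
  let actK : F.obj A ⊗ F.obj X ⟶ F.obj X := Functor.LaxMonoidal.μ F A X ≫ F.map act
  have hact : ∀ {C : Over (Spec (CommRingCat.of K))} (u : C ⟶ F.obj A) (x : C ⟶ F.obj X),
      lift u x ≫ actK = p _ _ _ u x ≫ F.map act := fun u x => by
      rw [← hpdef, Category.assoc]
  have hassocK : ∀ {C : Over (Spec (CommRingCat.of K))} (u v : C ⟶ F.obj A) (x : C ⟶ F.obj X),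
      lift u (lift v x ≫ actK) ≫ actK = lift (u * v) x ≫ actK := by
    intro C u v x
    obtain ⟨q, hq⟩ : ∃ q, q = p _ _ _ u (p _ _ _ v x) := ⟨_, rfl⟩
    have hu : q ≫ F.map (fst A (A ⊗ X)) = u := by rw [hq, p1]
    have hv : q ≫ F.map (snd A (A ⊗ X) ≫ fst A X) = v := by rw [hq, Functor.map_comp, reassoc_of% p2, p1]
    have hx : q ≫ F.map (snd A (A ⊗ X) ≫ snd A X) = x := by rw [hq, Functor.map_comp, reassoc_of% p2, p2]
    rw [hact, hact, hact, ← hu, ← hv, ← hx, plift, Category.assoc, ← Functor.map_comp, plift, Category.assoc,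
      ← Functor.map_comp, pmul, plift, Category.assoc, ← Functor.map_comp, hassoc]
  have honeK : ∀ {C : Over (Spec (CommRingCat.of K))} (x : C ⟶ F.obj X), lift (1 : C ⟶ F.obj A) x ≫ actK = x := by
    intro C x
    have h1 : x ≫ F.map (1 : X ⟶ A) = 1 := by
      rw [← Functor.homMonoidHom_apply, map_one, MonObj.comp_one]
    have h2 : x ≫ F.map (𝟙 X) = x := by rw [CategoryTheory.Functor.map_id, Category.comp_id]
    rw [hact]
    rw [show p C A X 1 x = p C A X (x ≫ F.map (1 : X ⟶ A)) (x ≫ F.map (𝟙 X)) by rw [h1, h2]]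
    rw [plift, Category.assoc, ← Functor.map_comp, hone, h2]
  have : IsAffineHom (orb actK x₀).left := by
    have : PreservesLimitsOfShape WalkingCospan F :=
      inferInstanceAs (PreservesLimitsOfShape WalkingCospan (Over.pullback (base k K)))
    have hm : Mono (F.map (lift act (snd A X))) := inferInstance
    have : Mono (orb actK x₀) := by
      refine ⟨fun {C} u v h => ?_⟩
      simp only [orb, comp_lift_assoc, Category.comp_id] at h
      rw [hact, hact] at h
      have e : ∀ w : C ⟶ F.obj A, w ≫ toUnit (F.obj A) ≫ x₀ = toUnit C ≫ x₀ := fun w => by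
        rw [comp_toUnit_assoc]
      rw [e, e] at h
      have key : p _ _ _ u (toUnit C ≫ x₀) = p _ _ _ v (toUnit C ≫ x₀) := by
        rw [← cancel_mono (F.map (lift act (snd A X)))]
        apply bcF_hom_ext
        · rw [Category.assoc, Category.assoc, ← Functor.map_comp, lift_fst]; exact h
        · rw [Category.assoc, Category.assoc, ← Functor.map_comp, lift_snd, p2, p2]
      rw [← p1 _ _ _ u (toUnit C ≫ x₀), key, p1]
    have : Mono (orb actK x₀).left := inferInstanceAs (Mono ((Over.forget _).map (orb actK x₀)))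
    have : IsProper ((orb actK x₀).left ≫ (F.obj X).hom) := by rw [Over.w]; infer_instance
    have : IsProper (orb actK x₀).left := IsProper.of_comp (orb actK x₀).left (F.obj X).hom
    have : LocallyQuasiFinite (orb actK x₀).left := inferInstance
    have : IsFinite (orb actK x₀).left := IsFinite.of_isProper_of_locallyQuasiFinite _
    infer_instance
  obtain ⟨ψ, n, hn, hψ⟩ := exists_equivariant_of_affine actK hassocK honeK x₀
  have := GrpschAbsch.isCommMonObj_of_isProper (F.obj A)
  have hψ' : F.map act ≫ ψ = (F.map (snd A X) ≫ ψ) * F.map (fst A X) ^ n := by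
    have e := hψ _ (F.map (fst A X)) (F.map (snd A X))
    rw [← Category.assoc, hact, Category.assoc] at e
    rw [← e, ← Category.id_comp (F.map (fst A X)), ← Category.id_comp (F.map (snd A X)), plift, Category.id_comp,
      lift_fst_snd, CategoryTheory.Functor.map_id, Category.id_comp]
  let tw : (K ≃ₐ[k] K) → ((bcK K X ⟶ bcK K A) →* (bcK K X ⟶ bcK K A)) := fun σ => twMonoidHom σ
  let Φ : bcK K X ⟶ bcK K A := ∏ σ : K ≃ₐ[k] K, tw σ ψ
  have hinv : ∀ τ : K ≃ₐ[k] K, twHom τ Φ = Φ := fun τ => by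
    show tw τ Φ = Φ
    rw [map_prod]
    exact Fintype.prod_equiv (Equiv.mulLeft τ) _ _ fun σ => (twHom_mul τ σ ψ).symm
  obtain ⟨φ, hφ⟩ := exists_desc Φ hinv
  refine ⟨φ, n * Fintype.card (K ≃ₐ[k] K), Nat.mul_pos hn Fintype.card_pos, fun T g x => ?_⟩
  have hσ : ∀ σ : K ≃ₐ[k] K, F.map act ≫ tw σ ψ = (F.map (snd A X) ≫ tw σ ψ) * F.map (fst A X) ^ n := fun σ => by
    have e := congrArg (twMonoidHom (T := A ⊗ X) (G := A) σ) hψ'
    rw [map_mul, map_pow] at e
    show F.map act ≫ twHom σ ψ = (F.map (snd A X) ≫ twHom σ ψ) * F.map (fst A X) ^ n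
    calc F.map act ≫ twHom σ ψ = twHom σ (F.map act ≫ ψ) := by rw [twHom_comp, twHom_map]
      _ = twHom σ (F.map (snd A X) ≫ ψ) * twHom σ (F.map (fst A X)) ^ n := e
      _ = _ := by rw [twHom_comp, twHom_map, twHom_map]
  have hΦ : F.map act ≫ Φ = (F.map (snd A X) ≫ Φ) * F.map (fst A X) ^ (n * Fintype.card (K ≃ₐ[k] K)) := by
    have hc : ∀ (u : F.obj (A ⊗ X) ⟶ F.obj X), u ≫ Φ = ∏ σ : K ≃ₐ[k] K, (u ≫ tw σ ψ) := fun u =>
      map_prod (MonoidHom.mk' (fun f : F.obj X ⟶ F.obj A => u ≫ f) fun a b => MonObj.comp_mul u a b) _ _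
    rw [hc, hc]
    simp only [hσ]
    rw [Finset.prod_mul_distrib, Finset.prod_const, Finset.card_univ, ← pow_mul]
  have huniv : act ≫ φ = (snd A X ≫ φ) * fst A X ^ (n * Fintype.card (K ≃ₐ[k] K)) := by
    apply bcF_map_injective (K := K)
    show F.map (act ≫ φ) = F.map _
    rw [← Functor.homMonoidHom_apply F (_ * _), map_mul, map_pow, Functor.homMonoidHom_apply,
      Functor.homMonoidHom_apply, Functor.map_comp, Functor.map_comp, hφ]
    exact hΦ
  rw [huniv, MonObj.comp_mul, MonObj.comp_pow, lift_fst, lift_snd_assoc]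

end Groth.AlgGrpEquiv
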