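import Groth.Agent.AlgGrpEquiv.Torsor
import Groth.Agent.AbVarMul.KernelComp
import Groth.Agent.AbVarMul.Density
import Groth.Agent.AbVarMul.KerTate

/-!
# A faithful action of an abelian variety has a finite orbit map
-/

set_option autoImplicit false

universe u

open CategoryTheory Limits MonoidalCategory CartesianMonoidalCategory MonObj GrpObj AlgebraicGeometry
  TopologicalSpace
open Groth.NeronArea.FieldComponents (pp pp_comp)

namespace Groth.AlgGrpEquiv

open Groth Groth.AbVarMul

variable {k : Type u} [Field k] [IsAlgClosed k] {A X : Over (Spec (CommRingCat.of k))} [GrpObj A]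
  [IsProper A.hom] [GeometricallyIntegral A.hom]
  [LocallyOfFiniteType X.hom] [QuasiCompact X.hom] [IsSeparated X.hom]

local notation "pt" => (𝟙_ (Over (Spec (CommRingCat.of k))))

variable (act : A ⊗ X ⟶ X)
  (hassoc : ∀ {T : Over (Spec (CommRingCat.of k))} (u v : T ⟶ A) (x : T ⟶ X),
    lift u (lift v x ≫ act) ≫ act = lift (u * v) x ≫ act)
  (hone : ∀ {T : Over (Spec (CommRingCat.of k))} (x : T ⟶ X), lift (1 : T ⟶ A) x ≫ act = x)

omit [IsProper A.hom] [GeometricallyIntegral A.hom] [LocallyOfFiniteType X.hom] [QuasiCompact X.hom]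
  [IsSeparated X.hom] [IsAlgClosed k] [GrpObj A] in
theorem point_comp_orb (x₀ : pt ⟶ X) (a : pt ⟶ A) : a ≫ orb act x₀ = lift a x₀ ≫ act := by
  rw [orb, comp_lift_assoc, Category.comp_id, ← Category.assoc, toUnit_unique (a ≫ toUnit A) (𝟙 _),
    Category.id_comp]

include hassoc hone in
omit [QuasiCompact X.hom] in
/-- The orbit map at a point with finite stabiliser is finite. -/
theorem isFinite_orb (x₀ : pt ⟶ X) (hfin : {a : pt ⟶ A | lift a x₀ ≫ act = x₀}.Finite) :
    IsFinite (orb act x₀).left := by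
  set f := orb act x₀
  have : IsProper (f.left ≫ X.hom) := by rw [Over.w]; infer_instance
  have : IsProper f.left := IsProper.of_comp f.left X.hom
  have := LocallyOfFiniteType.jacobsonSpace A.hom
  have : LocallyQuasiFinite f.left := by
    rw [← Scheme.Hom.quasiFiniteLocus_eq_top_iff]
    refine Opens.ext (Set.eq_univ_of_forall fun x => ?_)
    by_contra hx
    obtain ⟨c, hc, hcc⟩ := nonempty_inter_closedPoints (Z := (f.left.quasiFiniteLocus : Set A.left)ᶜ)
      ⟨x, hx⟩ f.left.quasiFiniteLocus.2.isClosed_compl.isLocallyClosed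
    refine hc ?_
    have := LocallyOfFiniteType.jacobsonSpace X.hom
    have hy : IsClosed ({f.left c} : Set X.left) := f.left.closePoints_subset_preimage_closedPoints hcc
    set F := f.left.base ⁻¹' {f.left c}
    have hF : IsClosed F := hy.preimage f.left.continuous
    obtain ⟨z, rfl⟩ := exists_point' c hcc
    have hpts : (F ∩ closedPoints A.left).Finite := by
      refine (hfin.image fun a => pp (z * a)).subset ?_
      rintro q ⟨hq, hqc⟩
      obtain ⟨w, rfl⟩ := exists_point' q hqc
      refine ⟨z⁻¹ * w, ?_, by simp⟩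
      have hwz : lift w x₀ ≫ act = lift z x₀ ≫ act := by
        rw [← point_comp_orb, ← point_comp_orb]
        exact point_ext' hq
      show lift (z⁻¹ * w) x₀ ≫ act = x₀
      rw [← hassoc, hwz, hassoc, inv_mul_cancel, hone]
    have hclosed : IsClosed (F ∩ closedPoints A.left) := by
      rw [← Set.biUnion_of_singleton (F ∩ closedPoints A.left)]
      exact hpts.isClosed_biUnion fun q hq => hq.2
    have hFfin : F.Finite := by
      rw [← (JacobsonSpace.closure_inter_closedPoints_eq_closure hF.isLocallyClosed).trans hF.closure_eq,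
        hclosed.closure_eq]
      exact hpts
    have : Finite (f.left.fiber (f.left (pp z))) := by
      have := hFfin.to_subtype
      exact Finite.of_equiv _ (f.left.fiberHomeo _).toEquiv.symm
    have : JacobsonSpace (f.left.fiber (f.left (pp z))) :=
      LocallyOfFiniteType.jacobsonSpace (f.left.fiberToSpecResidueField _)
    exact (Scheme.Hom.quasiFiniteAt_iff_isOpen_singleton_asFiber).2 (isOpen_discrete _)
  exact IsFinite.of_isProper_of_locallyQuasiFinite f.left

include hassoc hone in
omit [QuasiCompact X.hom] in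
/-- An infinite stabiliser has nontrivial torsion of every invertible prime order. -/
theorem exists_torsion_fix {l : ℕ} [Fact l.Prime] (hl : (l : k) ≠ 0) (x₀ : pt ⟶ X)
    (hinf : ¬ {a : pt ⟶ A | lift a x₀ ≫ act = x₀}.Finite) :
    ∃ a : pt ⟶ A, a ^ l = 1 ∧ a ≠ 1 ∧ lift a x₀ ≫ act = x₀ := by
  have := GrpschAbsch.isCommMonObj_of_isProper A
  have := LocallyOfFiniteType.jacobsonSpace A.hom
  set F := (orb act x₀).left.base ⁻¹' {pp x₀}
  have hF : IsClosed F := ((pointEquivClosedPoint X.hom ⟨x₀.left, Over.w _⟩).2).preimage (orb act x₀).left.continuous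
  have hmem : ∀ a : pt ⟶ A, pp a ∈ F ↔ lift a x₀ ≫ act = x₀ := fun a => by
    rw [← point_comp_orb]
    exact ⟨fun h => point_ext' h, fun h => congrArg pp h⟩
  obtain ⟨C, _, i, _, _, _, _, _, hC, -, hsub⟩ := exists_component_of_closed hF ((hmem 1).2 (hone x₀))
    (fun x y hx hy => (hmem _).2 (by rw [← hassoc, (hmem y).1 hy, (hmem x).1 hx]))
    (fun x hx => (hmem _).2 (by
      conv_lhs => rw [← (hmem x).1 hx, hassoc, inv_mul_cancel, hone]))
  have hns : ¬ Subsingleton C.left := fun h => hinf ((hsub h).subset fun a ha => (hmem a).2 ha)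
  by_contra hno
  push Not at hno
  refine hns ?_
  have : Mono i := Over.mono_of_mono_left i
  have htriv : ∀ (n : ℕ) (a : pt ⟶ C), a ^ l ^ n = 1 → a = 1 := by
    intro n
    induction n with
    | zero => intro a ha; simpa using ha
    | succ n ih =>
      intro a ha
      have h1 : a ^ l = 1 := ih _ (by rw [← pow_mul, ← pow_succ']; exact ha)
      rw [← cancel_mono i, MonObj.one_comp]
      by_contra hne
      exact hno (a ≫ i) (by rw [← pow_comp', h1, MonObj.one_comp]) hne ((hmem _).1 (hC a))
  have hset := closure_torsion_eq_univ (A := C) hl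
  have hsub' : {q : C.left | ∃ (n : ℕ) (a : pt ⟶ C), a ^ l ^ n = 1 ∧ pp a = q} ⊆ {pp (1 : pt ⟶ C)} := by
    rintro q ⟨n, a, ha, rfl⟩
    rw [htriv n a ha]; rfl
  have hcl : IsClosed ({pp (1 : pt ⟶ C)} : Set C.left) :=
    (pointEquivClosedPoint C.hom ⟨(1 : pt ⟶ C).left, Over.w _⟩).2
  have := (hset ▸ closure_minimal hsub' hcl : Set.univ ⊆ {pp (1 : pt ⟶ C)})
  exact ⟨fun a b => (this (Set.mem_univ a)).trans (this (Set.mem_univ b)).symm⟩

include hassoc hone in
/-- A faithful action on an integral variety has a finite orbit map. -/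
theorem exists_finite_orb [IsIntegral X.left]
    (hfaith : ∀ g : pt ⟶ A, lift (toUnit X ≫ g) (𝟙 X) ≫ act = 𝟙 X → g = 1) :
    ∃ x₀ : pt ⟶ X, IsFinite (orb act x₀).left := by
  classical
  obtain ⟨l, hlp, hl⟩ : ∃ l : ℕ, l.Prime ∧ (l : k) ≠ 0 := by
    by_cases h2 : ((2 : ℕ) : k) = 0
    · refine ⟨3, Nat.prime_three, fun h3 => one_ne_zero (α := k) ?_⟩
      have : ((3 : ℕ) : k) = ((2 : ℕ) : k) + 1 := by norm_num
      rwa [h3, h2, zero_add, eq_comm] at this
    · exact ⟨2, Nat.prime_two, h2⟩
  have := Fact.mk hlp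
  have := GrpschAbsch.isCommMonObj_of_isProper A
  have hS : {a : pt ⟶ A | a ^ l = 1}.Finite := by
    have : IsFinite (𝟙 A ^ l : A ⟶ A).left := by
      rw [← zpow_natCast]
      exact (AbVarMul.isogeny_zpow (A := A) (d := (l : ℤ)) (by exact_mod_cast hlp.ne_zero)).1
    refine (finite_ker_of_isFinite (𝟙 A ^ l : A ⟶ A)).subset fun a ha => ?_
    show a ≫ (𝟙 A ^ l : A ⟶ A) = 1
    rw [MonObj.comp_pow, Category.comp_id, show a ^ l = 1 from ha]
  let h : (pt ⟶ A) → (X ⟶ X) := fun a => lift (toUnit X ≫ a) (𝟙 X) ≫ act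
  let U : (pt ⟶ A) → Set X.left := fun a =>
    ((pullback.lift (h a).left (𝟙 X.left) (by rw [Over.w, Category.id_comp]) : X.left ⟶ pullback X.hom X.hom).base ⁻¹'
      Set.range (pullback.diagonal X.hom).base)ᶜ
  have hUo : ∀ a, IsOpen (U a) := fun a => by
    have hd : IsClosed (Set.range (pullback.diagonal X.hom).base) :=
      (pullback.diagonal X.hom).isClosedEmbedding.isClosed_range
    exact (hd.preimage (Scheme.Hom.continuous _)).isOpen_compl
  have hUne : ∀ a, a ≠ 1 → (U a).Nonempty := by
    intro a ha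
    by_contra hemp
    refine ha (hfaith a (eq_of_points fun z => point_ext' ?_))
    have hz : pp z ∉ U a := fun hm => hemp ⟨_, hm⟩
    obtain ⟨y, hy⟩ := not_not.1 hz
    have h1 := congrArg (pullback.fst X.hom X.hom).base hy
    have h2 := congrArg (pullback.snd X.hom X.hom).base hy
    rw [← Scheme.Hom.comp_apply, ← Scheme.Hom.comp_apply, pullback.diagonal_fst, pullback.lift_fst] at h1
    rw [← Scheme.Hom.comp_apply, ← Scheme.Hom.comp_apply, pullback.diagonal_snd, pullback.lift_snd] at h2
    rw [Category.comp_id]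
    exact h1.symm.trans h2
  let s : Finset (pt ⟶ A) := hS.toFinset.filter (· ≠ 1)
  have hne : (⋂ a ∈ s, U a).Nonempty := by
    have : ∀ t : Finset (pt ⟶ A), (∀ a ∈ t, a ≠ 1) → (⋂ a ∈ t, U a).Nonempty ∧ IsOpen (⋂ a ∈ t, U a) := by
      intro t
      induction t using Finset.induction_on with
      | empty => intro _; simp
      | @insert a t hat ih =>
        intro ht
        obtain ⟨h1, h2⟩ := ih fun b hb => ht b (Finset.mem_insert_of_mem hb)
        rw [Finset.set_biInter_insert]
        exact ⟨nonempty_preirreducible_inter (hUo a) h2 (hUne a (ht a (Finset.mem_insert_self a t))) h1,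
          (hUo a).inter h2⟩
    exact (this s fun a ha => (Finset.mem_filter.1 ha).2).1
  have := LocallyOfFiniteType.jacobsonSpace X.hom
  obtain ⟨c, hc, hcc⟩ := nonempty_inter_closedPoints hne
    (isOpen_biInter_finset fun a _ => hUo a).isLocallyClosed
  obtain ⟨x₀, rfl⟩ := exists_point' c hcc
  refine ⟨x₀, isFinite_orb act hassoc hone x₀ ?_⟩
  by_contra hinf
  obtain ⟨a, hal, ha1, hfix⟩ := exists_torsion_fix act hassoc hone hl x₀ hinf
  have hmem : pp x₀ ∈ U a := Set.mem_iInter₂.1 hc a (Finset.mem_filter.2 ⟨hS.mem_toFinset.2 hal, ha1⟩)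
  refine hmem ⟨pp x₀, ?_⟩
  suffices x₀.left ≫ pullback.diagonal X.hom = x₀.left ≫ pullback.lift (h a).left (𝟙 X.left)
      (by rw [Over.w, Category.id_comp]) from congr(($this).base (IsLocalRing.closedPoint k))
  have e : x₀ ≫ h a = x₀ := by
    simp only [h, comp_lift_assoc, comp_toUnit_assoc, Category.comp_id,
      toUnit_unique (toUnit pt) (𝟙 _), Category.id_comp]
    exact hfix
  refine pullback.hom_ext ?_ ?_
  · rw [Category.assoc, Category.assoc, pullback.diagonal_fst, pullback.lift_fst, Category.comp_id, ← Over.comp_left, e]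
  · rw [Category.assoc, Category.assoc, pullback.diagonal_snd, pullback.lift_snd]

end Groth.AlgGrpEquiv
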